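import Groth.Agent.NeronGrp.Divisible
import Groth.Agent.GrpField.Range
import Mathlib.AlgebraicGeometry.AlgClosed.Basic
import Mathlib.Data.Nat.Factorization.Basic

/-!
# Lifting `p`-primary elements of the component group of a commutative algebraic group
-/

set_option autoImplicit false
set_option backward.isDefEq.respectTransparency false
set_option backward.isDefEq.respectTransparency.types false
set_option linter.style.haveILetI false
universe u

open CategoryTheory CategoryTheory.Limits MonoidalCategory CartesianMonoidalCategory MonObj AlgebraicGeometry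
open Groth.Agent.S4070

namespace Groth.Agent.NeronGrp

variable {k : Type u} [Field k] {G : Over (Spec (CommRingCat.of k))} [GrpObj G]

/-- A point times a point of the identity component lies in the component of the former. -/
theorem mul_mem_component {x c : 𝟙_ (Over (Spec (CommRingCat.of k))) ⟶ G}
    (hc : c.left (IsLocalRing.closedPoint k) ∈ unitComp G) :
    (c * x).left (IsLocalRing.closedPoint k) ∈
      _root_.connectedComponent (x.left (IsLocalRing.closedPoint k)) := by
  have h := (rTr G x).hom.left.continuous.image_connectedComponent_subset _ ⟨_, hc, rfl⟩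
  rwa [← Scheme.Hom.comp_apply, ← Over.comp_left, comp_rTr, ← Scheme.Hom.comp_apply, ← Over.comp_left,
    comp_rTr, _root_.one_mul] at h

/-- Two points in the same component differ by a point of the identity component. -/
theorem mul_inv_mem_unitComp {a b : 𝟙_ (Over (Spec (CommRingCat.of k))) ⟶ G}
    (h : a.left (IsLocalRing.closedPoint k) ∈
      _root_.connectedComponent (b.left (IsLocalRing.closedPoint k))) :
    (a * b⁻¹).left (IsLocalRing.closedPoint k) ∈ unitComp G := by
  have h' := (rTr G b⁻¹).hom.left.continuous.image_connectedComponent_subset _ ⟨_, h, rfl⟩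
  rw [← Scheme.Hom.comp_apply, ← Over.comp_left, comp_rTr, ← Scheme.Hom.comp_apply, ← Over.comp_left,
    comp_rTr, mul_inv_cancel] at h'
  exact h'

theorem one_mem_unitComp : (1 : 𝟙_ (Over (Spec (CommRingCat.of k))) ⟶ G).left (IsLocalRing.closedPoint k) ∈
    unitComp G := mem_connectedComponent

theorem pow_mem_unitComp {a : 𝟙_ (Over (Spec (CommRingCat.of k))) ⟶ G}
    (ha : a.left (IsLocalRing.closedPoint k) ∈ unitComp G) (n : ℕ) :
    (a ^ n).left (IsLocalRing.closedPoint k) ∈ unitComp G := by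
  induction n with
  | zero => rw [pow_zero]; exact one_mem_unitComp
  | succ n ih => rw [pow_succ]; exact mul_mem_unitComp ih ha

variable (G) in
/-- The component group is killed by some positive integer. -/
theorem exists_pow_mem_unitComp [LocallyOfFiniteType G.hom] [QuasiCompact G.hom] :
    ∃ N : ℕ, 0 < N ∧ ∀ g : 𝟙_ (Over (Spec (CommRingCat.of k))) ⟶ G,
      (g ^ N).left (IsLocalRing.closedPoint k) ∈ unitComp G := by
  haveI : CompactSpace ↥G.left := (quasiCompact_iff_compactSpace G.hom).mp inferInstance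
  haveI : IsLocallyNoetherian G.left := LocallyOfFiniteType.isLocallyNoetherian G.hom
  haveI : IsNoetherian G.left := {}
  haveI := (finite_open_components ↥G.left).1
  let c := Nat.card (_root_.ConnectedComponents ↥G.left)
  refine ⟨c.factorial, c.factorial_pos, fun g => ?_⟩
  let F : Fin (c + 1) → _root_.ConnectedComponents ↥G.left := fun i =>
    _root_.ConnectedComponents.mk ((g ^ (i : ℕ)).left (IsLocalRing.closedPoint k))
  haveI := Fintype.ofFinite (_root_.ConnectedComponents ↥G.left)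
  obtain ⟨i, j, hne, hF⟩ := Fintype.exists_ne_map_eq_of_card_lt F (by
    rw [Fintype.card_fin, ← Nat.card_eq_fintype_card]; exact Nat.lt_succ_self c)
  wlog hij : (i : ℕ) < j generalizing i j
  · exact this j i hne.symm hF.symm (lt_of_le_of_ne (not_lt.1 hij) fun h => hne (Fin.ext h.symm))
  have h := mul_inv_mem_unitComp (a := g ^ (j : ℕ)) (b := g ^ (i : ℕ))
    (_root_.ConnectedComponents.coe_eq_coe'.mp hF.symm)
  rw [← pow_sub g hij.le] at h
  obtain ⟨m, hm⟩ := Nat.dvd_factorial (Nat.sub_pos_of_lt hij) (Nat.sub_le_of_le_add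
    (le_add_right (Nat.lt_succ_iff.1 j.2)) : (j : ℕ) - i ≤ c)
  rw [hm, pow_mul]
  exact pow_mem_unitComp h m

open scoped CategoryTheory.Obj in
variable (G) in
/-- The images of the iterates of a power map stabilise on rational points. -/
theorem exists_stable_pow [IsAlgClosed k] [IsCommMonObj G] [LocallyOfFiniteType G.hom]
    [QuasiCompact G.hom] (p : ℕ) :
    ∃ t : ℕ, ∀ (T : ℕ) (d : 𝟙_ (Over (Spec (CommRingCat.of k))) ⟶ G),
      t ≤ T → ∃ g : 𝟙_ (Over (Spec (CommRingCat.of k))) ⟶ G, g ^ (p ^ T) = d ^ (p ^ t) := by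
  haveI : CompactSpace ↥G.left := (quasiCompact_iff_compactSpace G.hom).mp inferInstance
  haveI : IsLocallyNoetherian G.left := LocallyOfFiniteType.isLocallyNoetherian G.hom
  haveI : IsNoetherian G.left := {}
  let m : ℕ → (G.left ⟶ G.left) := fun n => ((𝟙 G : G ⟶ G) ^ n).left
  have hm : ∀ (n : ℕ) (a : 𝟙_ (Over (Spec (CommRingCat.of k))) ⟶ G), (a ^ n).left = a.left ≫ m n :=
    fun n a => by rw [← Over.comp_left, MonObj.comp_pow, Category.comp_id]
  have hmul : ∀ a b : ℕ, m (a * b) = m a ≫ m b := fun a b => by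
    rw [← Over.comp_left, MonObj.comp_pow, Category.comp_id, ← pow_mul]
  have hlfp : ∀ n, LocallyOfFinitePresentation (m n) := fun n => by
    have h := Groth.Agent.FieldPow.locallyOfFinitePresentation_pow G (n : ℤ)
    rwa [zpow_natCast] at h
  have hcl : ∀ n, IsClosed (Set.range (m n)) := fun n => by
    haveI : IsMonHom ((𝟙 G : G ⟶ G) ^ n) := by
      have h := Groth.Agent.FieldPow.isMonHom_pow G (n : ℤ)
      rwa [zpow_natCast] at h
    haveI : LocallyOfFinitePresentation ((𝟙 G : G ⟶ G) ^ n).left := hlfp n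
    haveI : Nonempty ↥(Spec (CommRingCat.of k)) := ⟨IsLocalRing.closedPoint k⟩
    exact Groth.Agent.GrpField.isClosed_range ((𝟙 G : G ⟶ G) ^ n)
  let Z : ℕ →o TopologicalSpace.Opens ↥G.left :=
    { toFun := fun n => ⟨(Set.range (m (p ^ n)))ᶜ, (hcl _).isOpen_compl⟩
      monotone' := monotone_nat_of_le_succ fun n => Set.compl_subset_compl.2 <| by
        rw [pow_succ', hmul]
        rintro _ ⟨x, rfl⟩
        exact ⟨m p x, (Scheme.Hom.comp_apply _ _ _).symm⟩ }
  obtain ⟨t, ht⟩ := WellFoundedGT.monotone_chain_condition Z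
  refine ⟨t, fun T d hT => ?_⟩
  have hmem : (d ^ (p ^ t)).left (IsLocalRing.closedPoint k) ∈ Set.range (m (p ^ T)) := by
    have e : (Z t : Set ↥G.left) = (Z T : Set ↥G.left) := by rw [ht T hT]
    have e' : Set.range (m (p ^ t)) = Set.range (m (p ^ T)) := compl_injective e
    rw [← e', hm, Scheme.Hom.comp_apply]
    exact ⟨_, rfl⟩
  obtain ⟨z, hz⟩ := hmem
  have hS : IsClosed (m (p ^ T) ⁻¹' {(d ^ (p ^ t)).left (IsLocalRing.closedPoint k)}) :=
    ((pointEquivClosedPoint G.hom) ⟨(d ^ (p ^ t)).left, Over.w _⟩).2.preimage (m (p ^ T)).continuous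
  haveI : JacobsonSpace ↥G.left := LocallyOfFiniteType.jacobsonSpace G.hom
  obtain ⟨c, hc, hcc⟩ := nonempty_inter_closedPoints ⟨z, hz⟩ hS.isLocallyClosed
  let g : 𝟙_ (Over (Spec (CommRingCat.of k))) ⟶ G :=
    Over.homMk (pointOfClosedPoint G.hom c hcc) (pointOfClosedPoint_comp G.hom c hcc)
  refine ⟨g, Over.OverMorphism.ext
    (ext_of_apply_closedPoint_eq G.hom (Over.w (g ^ (p ^ T))) (Over.w (d ^ (p ^ t))) ?_)⟩
  rw [hm, Scheme.Hom.comp_apply]
  change m (p ^ T) ((pointOfClosedPoint G.hom c hcc) (IsLocalRing.closedPoint k)) = _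
  rw [pointOfClosedPoint_apply]
  exact hc

open scoped CategoryTheory.Obj in
/-- A `p`-primary component contains a `p`-primary rational point. -/
theorem exists_primary_lift [IsAlgClosed k] [IsCommMonObj G] [LocallyOfFiniteType G.hom]
    [QuasiCompact G.hom] {p : ℕ} (hp : p.Prime) (x : 𝟙_ (Over (Spec (CommRingCat.of k))) ⟶ G) (r : ℕ)
    (hx : (x ^ (p ^ r)).left (IsLocalRing.closedPoint k) ∈ unitComp G) :
    ∃ y : 𝟙_ (Over (Spec (CommRingCat.of k))) ⟶ G,
      y.left (IsLocalRing.closedPoint k) ∈ _root_.connectedComponent (x.left (IsLocalRing.closedPoint k)) ∧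
        ∃ s : ℕ, y ^ (p ^ s) = 1 := by
  obtain ⟨N, hN, hNC⟩ := exists_pow_mem_unitComp G
  obtain ⟨a, M, hM, hNe⟩ := Nat.exists_eq_pow_mul_and_not_dvd hN.ne' p hp.ne_one
  obtain ⟨t, ht⟩ := exists_stable_pow G p
  obtain ⟨g, hg⟩ := ht (a + (t + r)) (x ^ (p ^ r)) (by omega)
  have hcop : Nat.Coprime M (p ^ r) := ((hp.coprime_iff_not_dvd.2 hM).symm).pow_right r
  obtain ⟨u, v, huv⟩ : ∃ u v : ℕ, u * M = 1 + v * p ^ r := by
    obtain ⟨u, -, hu⟩ := Nat.exists_mul_mod_eq_of_coprime 1 hcop (pow_pos hp.pos r).ne'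
    have hM0 : 0 < M := Nat.pos_of_ne_zero fun h => hM (h ▸ dvd_zero p)
    have h1 : 1 ≤ (u + p ^ r) * M :=
      Nat.mul_pos (Nat.add_pos_right _ (pow_pos hp.pos r)) hM0
    have h2 : 1 ≡ (u + p ^ r) * M [MOD p ^ r] := by
      have : M * u ≡ 1 [MOD p ^ r] := hu
      rw [add_mul, mul_comm u]
      exact ((this.add_right (p ^ r * M)).trans (by
        simpa using (Nat.ModEq.refl 1).add (Nat.modEq_zero_iff_dvd.2 (dvd_mul_right (p ^ r) M)))).symm
    obtain ⟨v, hv⟩ := (Nat.modEq_iff_dvd' h1).1 h2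
    exact ⟨u + p ^ r, v, by rw [mul_comm v, ← hv]; omega⟩
  let c := (x ^ (p ^ r)) ^ v * ((g ^ N) ^ u)⁻¹
  have hc : c.left (IsLocalRing.closedPoint k) ∈ unitComp G :=
    mul_mem_unitComp (pow_mem_unitComp hx v) (inv_mem_unitComp (pow_mem_unitComp (hNC g) u))
  refine ⟨c * x, mul_mem_component hc, t + r, ?_⟩
  have hxu : c * x = x ^ (u * M) * ((g ^ N) ^ u)⁻¹ := by
    rw [huv, pow_add, pow_one, mul_comm v, pow_mul, mul_comm c x, _root_.mul_assoc]
  have e : (g ^ N) ^ (p ^ (t + r)) = (x ^ (p ^ (t + r))) ^ M := by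
    have : N * p ^ (t + r) = p ^ (a + (t + r)) * M := by rw [hNe, pow_add]; ring
    rw [← pow_mul g, this, pow_mul, hg, ← pow_mul, ← pow_mul, ← pow_mul, add_comm t r, pow_add, _root_.mul_assoc]
  rw [hxu, mul_pow, inv_pow, ← pow_mul (g ^ N) u, mul_comm u (p ^ _), pow_mul (g ^ N) (p ^ _) u, e,
    ← pow_mul, ← pow_mul, ← pow_mul, show u * M * p ^ (t + r) = p ^ (t + r) * (M * u) by ring,
    ← _root_.mul_assoc, mul_inv_cancel]

end Groth.Agent.NeronGrp
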