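import Groth.Agent.S4070
import Groth.Agent.FieldPow.Main
import Groth.Agent.RG.Dev.IntegralFibre
import Groth.Agent.PtsDense.Basic

/-!
# Divisibility of the identity component of a smooth group over a separably closed field
-/

set_option autoImplicit false
set_option backward.isDefEq.respectTransparency false
set_option backward.isDefEq.respectTransparency.types false
set_option linter.style.haveILetI false
universe u

open CategoryTheory CategoryTheory.Limits MonoidalCategory CartesianMonoidalCategory MonObj AlgebraicGeometry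
open Groth.Agent.S4070

namespace Groth.Agent.NeronGrp

/-- Embeddings match connected components with relative connected components of the range. -/
theorem image_connectedComponent_of_isEmbedding {X Y : Type*} [TopologicalSpace X] [TopologicalSpace Y]
    {p : X → Y} (hp : Topology.IsEmbedding p) (a : X) :
    p '' _root_.connectedComponent a = connectedComponentIn (Set.range p) (p a) := by
  refine Set.Subset.antisymm ?_ fun y hy => ?_
  · exact (isPreconnected_connectedComponent.image p hp.continuous.continuousOn).subset_connectedComponentIn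
      ⟨a, mem_connectedComponent, rfl⟩ (Set.image_subset_range _ _)
  · have hsub := connectedComponentIn_subset (Set.range p) (p a)
    obtain ⟨b, rfl⟩ := hsub hy
    refine ⟨b, ?_, rfl⟩
    have hpre : IsPreconnected (p ⁻¹' connectedComponentIn (Set.range p) (p a)) := by
      rw [← hp.isInducing.isPreconnected_image, Set.image_preimage_eq_inter_range,
        Set.inter_eq_left.mpr hsub]
      exact isPreconnected_connectedComponentIn
    exact hpre.subset_connectedComponent (mem_connectedComponentIn ⟨a, rfl⟩) hy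

variable {k : Type u} [Field k] (G : Over (Spec (CommRingCat.of k))) [GrpObj G]

/-- The connected component of the unit point. -/
def unitComp : Set G.left :=
  _root_.connectedComponent ((1 : 𝟙_ (Over (Spec (CommRingCat.of k))) ⟶ G).left (IsLocalRing.closedPoint k))

variable {G}

theorem image_unitComp_subset (b : 𝟙_ (Over (Spec (CommRingCat.of k))) ⟶ G)
    (hb : b.left (IsLocalRing.closedPoint k) ∈ unitComp G) :
    (rTr G b).hom.left '' unitComp G ⊆ unitComp G := by
  refine ((rTr G b).hom.left.continuous.image_connectedComponent_subset _).trans (subset_of_eq ?_)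
  rw [← Scheme.Hom.comp_apply, ← Over.comp_left, comp_rTr, _root_.one_mul]
  exact connectedComponent_eq hb ▸ rfl

theorem mul_mem_unitComp {a b : 𝟙_ (Over (Spec (CommRingCat.of k))) ⟶ G}
    (ha : a.left (IsLocalRing.closedPoint k) ∈ unitComp G) (hb : b.left (IsLocalRing.closedPoint k) ∈ unitComp G) :
    (a * b).left (IsLocalRing.closedPoint k) ∈ unitComp G := by
  rw [← comp_rTr, Over.comp_left, Scheme.Hom.comp_apply]
  exact image_unitComp_subset b hb ⟨_, ha, rfl⟩

theorem inv_mem_unitComp {a : 𝟙_ (Over (Spec (CommRingCat.of k))) ⟶ G}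
    (ha : a.left (IsLocalRing.closedPoint k) ∈ unitComp G) :
    a⁻¹.left (IsLocalRing.closedPoint k) ∈ unitComp G := by
  have h := (rTr G a⁻¹).hom.left.continuous.image_connectedComponent_subset
    ((a : 𝟙_ (Over (Spec (CommRingCat.of k))) ⟶ G).left (IsLocalRing.closedPoint k))
  rw [← Scheme.Hom.comp_apply, ← Over.comp_left, comp_rTr, mul_inv_cancel] at h
  refine h ⟨(1 : 𝟙_ (Over (Spec (CommRingCat.of k))) ⟶ G).left (IsLocalRing.closedPoint k), ?_, ?_⟩
  · rw [← connectedComponent_eq ha]; exact mem_connectedComponent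
  · rw [← Scheme.Hom.comp_apply, ← Over.comp_left, comp_rTr, _root_.one_mul]

open scoped CategoryTheory.Obj in
/-- Multiplication by an invertible integer is surjective on rational points of the identity component. -/
theorem exists_pow_eq [IsSepClosed k] [IsCommMonObj G] [Smooth G.hom] [QuasiCompact G.hom]
    {n : ℕ} (hn : (n : k) ≠ 0) (r : 𝟙_ (Over (Spec (CommRingCat.of k))) ⟶ G)
    (hr : r.left (IsLocalRing.closedPoint k) ∈ unitComp G) :
    ∃ a : 𝟙_ (Over (Spec (CommRingCat.of k))) ⟶ G,
      a.left (IsLocalRing.closedPoint k) ∈ unitComp G ∧ a ^ n = r := by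
  haveI : CompactSpace ↥G.left := (quasiCompact_iff_compactSpace G.hom).mp inferInstance
  haveI : IsLocallyNoetherian G.left := LocallyOfFiniteType.isLocallyNoetherian G.hom
  haveI : IsNoetherian G.left := {}
  let C : G.left.Opens := ⟨unitComp G, (finite_open_components ↥G.left).2 _⟩
  let m := ((𝟙 G : G ⟶ G) ^ n).left
  haveI : Etale m := by
    have h := Groth.Agent.FieldPow.etale_pow G (n := (n : ℤ)) (by exact_mod_cast hn)
    rwa [zpow_natCast] at h
  have hm : ∀ a : 𝟙_ (Over (Spec (CommRingCat.of k))) ⟶ G, (a ^ n).left = a.left ≫ m := fun a => by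
    rw [← Over.comp_left, MonObj.comp_pow, Category.comp_id]
  have hP : m '' (C : Set G.left) ⊆ C := by
    refine (m.continuous.image_connectedComponent_subset _).trans (subset_of_eq ?_)
    rw [← Scheme.Hom.comp_apply, ← hm, one_pow]
    rfl
  haveI : ConnectedSpace (C : Scheme.{u}) := isConnected_iff_connectedSpace.mp isConnected_connectedComponent
  haveI : Smooth (C.ι ≫ G.hom) := inferInstance
  haveI : CompactSpace ↥(C : Scheme.{u}) :=
    isCompact_iff_compactSpace.mp (TopologicalSpace.NoetherianSpace.isCompact (C : Set G.left))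
  haveI : IsIntegral (C : Scheme.{u}) := Groth.Agent.RGDev.isIntegral_of_smooth_connected (C.ι ≫ G.hom)
  have hirr : IsPreirreducible (C : Set G.left) := by
    have h := (IrreducibleSpace.isIrreducible_univ ↥(C : Scheme.{u})).2.image C.ι C.ι.continuous.continuousOn
    rwa [Set.image_univ, Scheme.Opens.range_ι] at h
  -- rational preimages
  have hpre : ∀ b : 𝟙_ (Over (Spec (CommRingCat.of k))) ⟶ G,
      b.left (IsLocalRing.closedPoint k) ∈ m '' (C : Set G.left) →
      ∃ a : 𝟙_ (Over (Spec (CommRingCat.of k))) ⟶ G,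
        a.left (IsLocalRing.closedPoint k) ∈ unitComp G ∧ a ^ n = b := by
    intro b ⟨c, hc, hcb⟩
    let f : pullback (C.ι ≫ m) b.left ⟶ Spec (CommRingCat.of k) := pullback.snd _ _
    haveI : Etale f := MorphismProperty.pullback_snd _ _ inferInstance
    obtain ⟨p, -, -⟩ := Scheme.Pullback.exists_preimage_pullback (f := C.ι ≫ m) (g := b.left) ⟨c, hc⟩
      (IsLocalRing.closedPoint k) hcb
    haveI : Nonempty ↥(pullback (C.ι ≫ m) b.left) := ⟨p⟩
    obtain ⟨-, s, hs, -⟩ := (Groth.Agent.PtsDense.dense_rational k f).nonempty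
    have hb : b.left ≫ G.hom = 𝟙 _ := Over.w b
    have hm' : m ≫ G.hom = G.hom := Over.w _
    have hsm : (s ≫ pullback.fst (C.ι ≫ m) b.left ≫ C.ι) ≫ m = b.left := by
      simp only [Category.assoc, pullback.condition]
      exact (Category.assoc _ _ _).symm.trans ((congrArg (fun t => t ≫ b.left) hs).trans (Category.id_comp _))
    let a : 𝟙_ (Over (Spec (CommRingCat.of k))) ⟶ G :=
      Over.homMk (s ≫ pullback.fst (C.ι ≫ m) b.left ≫ C.ι) (by
        rw [← hm', ← Category.assoc, hsm, hb]; rfl)
    refine ⟨a, ?_, Over.OverMorphism.ext ((hm a).trans hsm)⟩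
    exact (pullback.fst (C.ι ≫ m) b.left (s (IsLocalRing.closedPoint k))).2
  let U : Set G.left := m '' (C : Set G.left)
  let V : Set G.left := (rTr G r).hom.left '' U
  have hUo : IsOpen U := m.isOpenMap _ C.2
  have hVo : IsOpen V := (rTr G r).hom.left.isOpenEmbedding.isOpenMap _ hUo
  have hUne : U.Nonempty := Set.Nonempty.image _ ⟨_, mem_connectedComponent⟩
  obtain ⟨z, hzC, hzU, hzV⟩ := hirr U V hUo hVo
    (hUne.imp fun u hu => ⟨hP hu, hu⟩)
    ((hUne.image _).imp fun u hu => ⟨image_unitComp_subset r hr (Set.image_mono hP hu), hu⟩)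
  obtain ⟨_, ⟨hbU, hbV⟩, s, hs, rfl⟩ :=
    (Groth.Agent.PtsDense.dense_rational k G.hom).inter_open_nonempty (U ∩ V) (hUo.inter hVo) ⟨z, hzU, hzV⟩
  let b : 𝟙_ (Over (Spec (CommRingCat.of k))) ⟶ G := Over.homMk s hs
  obtain ⟨a, ha, hab⟩ := hpre b hbU
  obtain ⟨a', ha', hab'⟩ := hpre (b * r⁻¹) (by
    obtain ⟨u, hu, hub⟩ := hbV
    have e : (rTr G r).hom.left ((b * r⁻¹).left (IsLocalRing.closedPoint k)) = (rTr G r).hom.left u := by
      rw [← Scheme.Hom.comp_apply, ← Over.comp_left, comp_rTr, inv_mul_cancel_right, hub]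
      rfl
    rw [(rTr G r).hom.left.isOpenEmbedding.injective e]
    exact hu)
  refine ⟨a * a'⁻¹, mul_mem_unitComp ha (inv_mem_unitComp ha'), ?_⟩
  rw [mul_pow, inv_pow, hab, hab', mul_inv_rev, inv_inv, mul_comm r, ← _root_.mul_assoc, mul_inv_cancel,
    _root_.one_mul]

end Groth.Agent.NeronGrp
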