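import Groth.Agent.NeronGrp.CompLift
import Groth.Agent.AutFinOrd.NoGa
import Groth.Agent.Chev.Main
import Groth.Agent.RedR1.GaSpace
import Groth.Prelude.Def_SGA7IX

/-!
# Splitting of the component sequence
-/

set_option autoImplicit false
set_option backward.isDefEq.respectTransparency false
set_option backward.isDefEq.respectTransparency.types false
set_option synthInstance.maxHeartbeats 400000
set_option maxHeartbeats 1000000
set_option linter.style.haveILetI false
universe u

open CategoryTheory CategoryTheory.Limits MonoidalCategory CartesianMonoidalCategory MonObj AlgebraicGeometry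
open Groth.Agent.S4070

namespace Groth.Agent.NeronGrp

variable {k : Type u} [Field k] {G : Over (Spec (CommRingCat.of k))} [GrpObj G]

theorem exists_split_of_root [IsCommMonObj G] [LocallyOfFiniteType G.hom] [QuasiCompact G.hom]
    (x : 𝟙_ (Over (Spec (CommRingCat.of k))) ⟶ G)
    (h : ∀ N : ℕ, 0 < N → (∀ n : ℕ, (x ^ n).left (IsLocalRing.closedPoint k) ∈ unitComp G ↔ N ∣ n) →
      ∃ w : 𝟙_ (Over (Spec (CommRingCat.of k))) ⟶ G,
        w.left (IsLocalRing.closedPoint k) ∈ unitComp G ∧ (w * x) ^ N = 1) :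
    ∃ y : 𝟙_ (Over (Spec (CommRingCat.of k))) ⟶ G,
      y.left (IsLocalRing.closedPoint k) ∈ _root_.connectedComponent (x.left (IsLocalRing.closedPoint k)) ∧
        ∀ n : ℕ, y ^ n = 1 ↔ (x ^ n).left (IsLocalRing.closedPoint k) ∈ unitComp G := by
  classical
  open scoped CategoryTheory.Obj in
  obtain ⟨M, hM, hMC⟩ := exists_pow_mem_unitComp G
  have hex : ∃ n : ℕ, 0 < n ∧ (x ^ n).left (IsLocalRing.closedPoint k) ∈ unitComp G := ⟨M, hM, hMC x⟩
  obtain ⟨hN, hNC⟩ := Nat.find_spec hex
  set N := Nat.find hex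
  have hdvd : ∀ n : ℕ, (x ^ n).left (IsLocalRing.closedPoint k) ∈ unitComp G ↔ N ∣ n := by
    intro n
    refine ⟨fun hn => ?_, fun ⟨m, hm⟩ => by rw [hm, pow_mul]; exact pow_mem_unitComp hNC m⟩
    by_contra hnd
    have h1 : (x ^ (n % N)).left (IsLocalRing.closedPoint k) ∈ unitComp G := by
      have e : x ^ (n % N) = x ^ n * ((x ^ N) ^ (n / N))⁻¹ := by
        rw [eq_mul_inv_iff_mul_eq, ← pow_mul, ← pow_add, Nat.mod_add_div]
      rw [e]
      exact mul_mem_unitComp hn (inv_mem_unitComp (pow_mem_unitComp hNC _))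
    exact Nat.find_min hex (Nat.mod_lt n hN) ⟨Nat.pos_of_ne_zero fun h0 => hnd (Nat.dvd_of_mod_eq_zero h0), h1⟩
  obtain ⟨w, hw, hwN⟩ := h N hN hdvd
  refine ⟨w * x, mul_mem_component hw, fun n => ⟨fun hy => ?_, fun hn => ?_⟩⟩
  · rw [mul_pow] at hy
    rw [← inv_eq_of_mul_eq_one_right hy]
    exact inv_mem_unitComp (pow_mem_unitComp hw n)
  · obtain ⟨m, rfl⟩ := (hdvd n).1 hn
    rw [pow_mul, hwN, one_pow]

open scoped CategoryTheory.Obj in
/-- Without additive subgroups, every positive integer gives surjective multiplication on the rational points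
of the identity component. -/
theorem exists_pow_eq_of_noGa [IsAlgClosed k] [IsCommMonObj G] [Smooth G.hom] [QuasiCompact G.hom]
    (hG : AutFinOrd.NoGaSub G) {n : ℕ} (hn : 0 < n) (r : 𝟙_ (Over (Spec (CommRingCat.of k))) ⟶ G)
    (hr : r.left (IsLocalRing.closedPoint k) ∈ unitComp G) :
    ∃ a : 𝟙_ (Over (Spec (CommRingCat.of k))) ⟶ G,
      a.left (IsLocalRing.closedPoint k) ∈ unitComp G ∧ a ^ n = r := by
  obtain ⟨C, hC, c, hcm, hcc, hCs, hCi, hcr⟩ := Chev.exists_component G
  haveI := hcm; haveI := hcc; haveI := hCs; haveI := hCi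
  haveI : QuasiCompact C.hom := by
    rw [← Over.w c]
    infer_instance
  haveI : Mono c := GrpField.SchImg.mono_of_isClosedImmersion c
  haveI : IsCommMonObj C := ⟨by
    rw [show μ[C] = fst C C * snd C C from Eq.symm (by rw [Hom.mul_def, lift_fst_snd, Category.id_comp]),
      MonObj.comp_mul, braiding_hom_fst, braiding_hom_snd, ← cancel_mono c, MonObj.mul_comp, MonObj.mul_comp]
    exact mul_comm _ _⟩
  have hpt : (GrpComp.ept G : ↥G.left) =
      (1 : 𝟙_ (Over (Spec (CommRingCat.of k))) ⟶ G).left (IsLocalRing.closedPoint k) := by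
    rw [unit_eq]; rfl
  have hcr' : Set.range c.left = unitComp G := by rw [hcr, hpt]; rfl
  have hSA : Chev.IsSA C := AutFinOrd.isSA_of_noGa fun j hj hjc =>
    hG (j ≫ c) inferInstance (inferInstanceAs (IsClosedImmersion (j.left ≫ c.left)))
  haveI : Surjective (𝟙 C ^ n).left := hSA.surjective_pow hn
  haveI : IsReduced (𝟙_ (Over (Spec (CommRingCat.of k)))).left :=
    inferInstanceAs (IsReduced (Spec (CommRingCat.of k)))
  obtain ⟨r₀, hr₀⟩ := Chev.exists_lift_of_range r c (by
    rintro _ ⟨s, rfl⟩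
    rw [show s = (IsLocalRing.closedPoint k : Spec (CommRingCat.of k)) from
      Subsingleton.elim (α := PrimeSpectrum k) _ _, hcr']
    exact hr)
  obtain ⟨z, hz⟩ := Chev.exists_rat_lift (𝟙 C ^ n) r₀
  refine ⟨z ≫ c, ?_, ?_⟩
  · rw [← hcr', Over.comp_left, Scheme.Hom.comp_apply]
    exact ⟨_, rfl⟩
  · rw [← hr₀, ← hz, MonObj.comp_pow, Category.comp_id, MonObj.pow_comp]

open scoped CategoryTheory.Obj in
/-- Absence of additive subgroups in the geometric fibre over a closed point with algebraically closed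
residue field descends to the fibre. -/
theorem noGaSub_residue (R : Type u) [CommRing R] [IsLocalRing R] [IsAlgClosed (IsLocalRing.ResidueField R)]
    (N : Over (Spec (CommRingCat.of R))) [GrpObj N]
    (hN : SGA7.FibreUnipotentRankZero (S := Spec (CommRingCat.of R)) (IsLocalRing.closedPoint R) N) :
    AutFinOrd.NoGaSub
      (Red.bc (Spec.map (CommRingCat.ofHom (IsLocalRing.residue R))) N) := by
  intro j hj hjc
  haveI := hj
  let q : Spec (CommRingCat.of (IsLocalRing.ResidueField R)) ⟶ Spec (CommRingCat.of R) :=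
    Spec.map (CommRingCat.ofHom (IsLocalRing.residue R))
  haveI : IsClosedImmersion q := IsClosedImmersion.spec_of_surjective _ IsLocalRing.residue_surjective
  let g := Red.geomPt (S := Spec (CommRingCat.of R)) (IsLocalRing.closedPoint R)
  obtain ⟨v, hv⟩ : ∃ v, v ≫ q = g := by
    obtain ⟨φ, hφ⟩ := Spec.map_surjective g
    have hker : ∀ a ∈ IsLocalRing.maximalIdeal R, φ.hom a = 0 := by
      intro a ha
      have h0 : g (IsLocalRing.closedPoint _) = (IsLocalRing.closedPoint R : Spec (CommRingCat.of R)) :=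
        (Scheme.Hom.comp_apply _ _ _).trans (Scheme.fromSpecResidueField_apply _ _)
      rw [← hφ] at h0
      have h1 : a ∈ ((Spec.map φ) (IsLocalRing.closedPoint _) : PrimeSpectrum R).asIdeal := by
        rw [h0]; exact ha
      have h2 : φ.hom a ∈ IsLocalRing.maximalIdeal _ := h1
      by_contra hne
      exact (IsLocalRing.mem_maximalIdeal _).1 h2 (Ne.isUnit hne)
    refine ⟨Spec.map (CommRingCat.ofHom (Ideal.Quotient.lift (IsLocalRing.maximalIdeal R) φ.hom hker)), ?_⟩
    rw [← hφ, ← Spec.map_comp]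
    congr 1
  let F := Over.pullback v
  let a := RedR1.gaBC (Spec (CommRingCat.of (IsLocalRing.ResidueField R))) v
  let b := (MTBridge.bcComp q v N).symm ≪≫ MTBridge.bcCongr hv N
  haveI : IsIso a.inv.hom.hom := inferInstanceAs (IsIso ((Grp.forget _).map a.inv))
  haveI : IsIso b.hom.hom.hom := inferInstanceAs (IsIso ((Grp.forget _).map b.hom))
  haveI : IsMonHom a.inv.hom.hom := a.inv.hom.isMonHom_hom
  haveI : IsMonHom b.hom.hom.hom := b.hom.hom.isMonHom_hom
  haveI : IsIso a.inv.hom.hom.left := inferInstanceAs (IsIso ((Over.forget _).map a.inv.hom.hom))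
  haveI : IsIso b.hom.hom.hom.left := inferInstanceAs (IsIso ((Over.forget _).map b.hom.hom.hom))
  haveI : IsClosedImmersion (F.map j).left :=
    MorphismProperty.baseChange_map (P := @IsClosedImmersion) v j hjc
  exact hN (a.inv.hom.hom ≫ F.map j ≫ b.hom.hom.hom) inferInstance
    (inferInstanceAs (IsClosedImmersion (a.inv.hom.hom.left ≫ (F.map j).left ≫ b.hom.hom.hom.left)))

end Groth.Agent.NeronGrp
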