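import Mathlib.CategoryTheory.Monoidal.Cartesian.Grp

/-!
# Transporting a group structure along a functor which is bijective on maps into an object

If `F : C ⥤ D` and `e : F N ⟶ A` with `A` a group object are such that `g ↦ F g ≫ e` is bijective on
morphisms `Y ⟶ N` for the finite products `Y` of copies of `N`, then `N` is a group object, with
`g ↦ F g ≫ e` a homomorphism on those morphism sets.  No product preservation of `F` is needed.
-/

universe v₁ v₂ u₁ u₂

open CategoryTheory Limits MonoidalCategory CartesianMonoidalCategory MonObj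

namespace Groth.Agent.NeronGrp

variable {C : Type u₁} [Category.{v₁} C] [CartesianMonoidalCategory C]
  {D : Type u₂} [Category.{v₂} D] [CartesianMonoidalCategory D]

/-- The group object structure on `N` transported from `A`. -/
noncomputable def grpObjOfBijective (F : C ⥤ D) {N : C} {A : D} [GrpObj A] (e : F.obj N ⟶ A)
    (P : C → Prop) (hP : ∀ Y, P Y → Function.Bijective fun g : Y ⟶ N => F.map g ≫ e)
    (h0 : P (𝟙_ C)) (h1 : P N) (h2 : P (N ⊗ N)) (h3 : P ((N ⊗ N) ⊗ N))
    (hl : P (𝟙_ C ⊗ N)) (hr : P (N ⊗ 𝟙_ C)) : GrpObj N :=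
  let oneN : 𝟙_ C ⟶ N := ((hP _ h0).2 1).choose
  let mulN : N ⊗ N ⟶ N := ((hP _ h2).2 ((F.map (fst N N) ≫ e) * (F.map (snd N N) ≫ e))).choose
  let invN : N ⟶ N := ((hP _ h1).2 ((F.map (𝟙 N) ≫ e)⁻¹)).choose
  have hone : F.map oneN ≫ e = 1 := ((hP _ h0).2 1).choose_spec
  have hmul₀ : F.map mulN ≫ e = (F.map (fst N N) ≫ e) * (F.map (snd N N) ≫ e) :=
    ((hP _ h2).2 ((F.map (fst N N) ≫ e) * (F.map (snd N N) ≫ e))).choose_spec
  have hinv₀ : F.map invN ≫ e = (F.map (𝟙 N) ≫ e)⁻¹ :=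
    ((hP _ h1).2 ((F.map (𝟙 N) ≫ e)⁻¹)).choose_spec
  have hmul : ∀ {Y : C} (k : Y ⟶ N ⊗ N),
      F.map (k ≫ mulN) ≫ e = (F.map (k ≫ fst N N) ≫ e) * (F.map (k ≫ snd N N) ≫ e) := fun k => by
    rw [F.map_comp, Category.assoc, hmul₀,
      MonObj.comp_mul, F.map_comp, F.map_comp, Category.assoc, Category.assoc]
  have hone' : ∀ {Y : C} (k : Y ⟶ 𝟙_ C), F.map (k ≫ oneN) ≫ e = 1 := fun k => by
    rw [F.map_comp, Category.assoc, hone, MonObj.comp_one]
  { one := oneN
    mul := mulN
    inv := invN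
    one_mul := by
      refine (hP _ hl).1 ?_
      change F.map (oneN ▷ N ≫ mulN) ≫ e = F.map (λ_ N).hom ≫ e
      rw [hmul, whiskerRight_fst, whiskerRight_snd, hone', _root_.one_mul, leftUnitor_hom]
    mul_one := by
      refine (hP _ hr).1 ?_
      change F.map (N ◁ oneN ≫ mulN) ≫ e = F.map (ρ_ N).hom ≫ e
      rw [hmul, whiskerLeft_fst, whiskerLeft_snd, hone', _root_.mul_one, rightUnitor_hom]
    mul_assoc := by
      refine (hP _ h3).1 ?_
      change F.map (mulN ▷ N ≫ mulN) ≫ e = F.map ((α_ N N N).hom ≫ N ◁ mulN ≫ mulN) ≫ e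
      rw [hmul, whiskerRight_fst, whiskerRight_snd, hmul, ← Category.assoc (α_ N N N).hom, hmul]
      simp only [Category.assoc, whiskerLeft_fst, whiskerLeft_snd]
      rw [← Category.assoc (α_ N N N).hom (snd N (N ⊗ N)) mulN, hmul]
      simp only [Category.assoc, associator_hom_fst, associator_hom_snd_fst, associator_hom_snd_snd]
      rw [_root_.mul_assoc]
    left_inv := by
      refine (hP _ h1).1 ?_
      change F.map (lift invN (𝟙 N) ≫ mulN) ≫ e = F.map (toUnit N ≫ oneN) ≫ e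
      rw [hmul, lift_fst, lift_snd, hone', hinv₀, inv_mul_cancel]
    right_inv := by
      refine (hP _ h1).1 ?_
      change F.map (lift (𝟙 N) invN ≫ mulN) ≫ e = F.map (toUnit N ≫ oneN) ≫ e
      rw [hmul, lift_fst, lift_snd, hone', hinv₀, mul_inv_cancel] }

end Groth.Agent.NeronGrp
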